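import Mathlib
import Cfsg.Agent.Lib.H28.G23M.Words

set_option autoImplicit false

/-!
# Words for a presentation of the sixfold cover of `Ω₇(3)` (helper28)

Letters `l < 18` stand for eighteen elements of order three of `Ω₇(3)`: `0, …, 11` are the root elements of a subgroup
`G₂(3)` (as in `G23M/Words.lean`), and `0, 6, 1, 10, 5, 11, 12, …, 17` are the twelve long root elements, which satisfy
the Steinberg relations of `SL₄(3)` (positions `pos4`).  Letters `18 ≤ l < 36` are the inverses.  The relators say: cubes;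
Steinberg relations (`stL`); commuting pairs (`commL`); and the words of `cenL` are central.
-/

namespace Cfsg.Agent.Lib.H28.O73M

/-- the inverse letter -/
def linv (l : ℕ) : ℕ := if (l / 18) % 2 = 0 then l + 18 else l - 18

/-- the inverse word -/
def winv (w : List ℕ) : List ℕ := (w.map linv).reverse

/-- the relator `x y x⁻¹ y⁻¹ z⁻¹` -/
def stWord (x y z : ℕ) : List ℕ := [x, y, linv x, linv y, linv z]

/-- the relator `x y x⁻¹ y⁻¹` -/
def commWord (x y : ℕ) : List ℕ := [x, y, linv x, linv y]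

/-- the relator `c q c⁻¹ q⁻¹` -/
def cenWord (c : List ℕ) (q : ℕ) : List ℕ := c ++ [q] ++ winv c ++ [linv q]

/-- the Steinberg relations `x y x⁻¹ y⁻¹ = z` -/
def stL : List (ℕ × ℕ × ℕ) := [(0, 6, 1), (6, 10, 11), (1, 5, 0), (10, 0, 5), (5, 11, 10), (11, 1, 6), (2, 7, 3), (7, 8, 9), (3, 4, 2), (8, 2, 4), (4, 9, 8), (9, 3, 7), (0, 13, 12), (1, 14, 12), (12, 16, 0), (12, 17, 1), (11, 12, 13), (6, 14, 13), (13, 15, 11), (13, 17, 6), (10, 12, 14), (5, 13, 14), (14, 15, 10), (14, 16, 5), (15, 0, 16), (15, 1, 17), (16, 11, 15), (16, 6, 17), (17, 10, 15), (17, 5, 16)]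

/-- the commuting pairs -/
def commL : List (ℕ × ℕ) := [(0, 1), (0, 5), (6, 1), (6, 11), (10, 5), (10, 11), (2, 3), (2, 4), (7, 3), (7, 9), (8, 4), (8, 9), (0, 2), (0, 3), (1, 2), (1, 4), (5, 3), (5, 7), (6, 4), (6, 8), (10, 7), (10, 9), (11, 8), (11, 9), (0, 12), (0, 14), (0, 16), (0, 17), (1, 12), (1, 13), (1, 16), (1, 17), (12, 6), (12, 13), (12, 5), (12, 14), (11, 13), (11, 14), (11, 15), (11, 17), (6, 13), (6, 15), (6, 17), (13, 10), (13, 14), (10, 14), (10, 15), (10, 16), (5, 14), (5, 15), (5, 16), (15, 16), (15, 17), (16, 17)]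

/-- the central words -/
def cenL : List (List ℕ) := [
  [0, 4, 18, 22],
  [0, 7, 18, 25],
  [1, 3, 19, 21],
  [1, 8, 19, 26],
  [5, 2, 23, 20],
  [5, 9, 23, 27],
  [6, 2, 24, 20],
  [6, 9, 24, 27],
  [10, 3, 28, 21],
  [10, 8, 28, 26],
  [11, 4, 29, 22],
  [11, 7, 29, 25],
  [26, 18, 8, 0, 19, 24, 4, 2],
  [27, 18, 9, 0, 5, 28, 25, 21],
  [25, 19, 7, 1, 0, 5, 21, 2],
  [27, 19, 9, 1, 24, 11, 8, 22],
  [28, 20, 10, 2, 5, 0, 21, 25],
  [29, 20, 11, 2, 24, 19, 4, 26],
  [24, 21, 6, 3, 19, 0, 2, 4],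
  [29, 21, 11, 3, 10, 23, 25, 9],
  [23, 22, 5, 4, 0, 19, 20, 3],
  [28, 22, 10, 4, 29, 6, 8, 9],
  [22, 23, 4, 5, 18, 1, 2, 21],
  [26, 23, 8, 5, 10, 11, 27, 7],
  [21, 24, 3, 6, 1, 18, 20, 22],
  [25, 24, 7, 6, 29, 28, 9, 8],
  [19, 25, 1, 7, 18, 23, 3, 20],
  [24, 25, 6, 7, 11, 10, 27, 26],
  [18, 26, 0, 8, 1, 6, 22, 20],
  [23, 26, 5, 8, 28, 29, 9, 25],
  [18, 27, 0, 9, 23, 10, 7, 3],
  [19, 27, 1, 9, 6, 29, 26, 4],
  [20, 28, 2, 10, 23, 18, 3, 7],
  [22, 28, 4, 10, 11, 24, 26, 27],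
  [20, 29, 2, 11, 6, 1, 22, 8],
  [21, 29, 3, 11, 28, 5, 7, 27],
  [2, 5, 20, 23],
  [2, 6, 20, 24],
  [2, 12, 20, 30],
  [3, 10, 21, 28],
  [3, 16, 21, 34],
  [4, 11, 22, 29],
  [4, 17, 22, 35],
  [7, 11, 25, 29],
  [7, 14, 25, 32],
  [8, 10, 26, 28],
  [8, 13, 26, 31],
  [9, 15, 27, 33],
  [2, 13, 20, 31, 17, 22, 19],
  [2, 14, 20, 32, 3, 0, 34],
  [2, 15, 20, 33, 33, 12, 33],
  [2, 16, 20, 34, 18],
  [2, 17, 20, 35, 19],
  [3, 12, 21, 30, 0],
  [3, 13, 21, 31, 31, 16, 31],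
  [3, 14, 21, 32, 5],
  [3, 15, 21, 33, 14, 5, 25],
  [3, 17, 21, 35, 2, 30, 18],
  [4, 12, 22, 30, 1],
  [4, 13, 22, 31, 6],
  [4, 14, 22, 32, 32, 17, 32],
  [4, 15, 22, 33, 8, 31, 24],
  [4, 16, 22, 34, 12, 1, 20],
  [7, 12, 25, 30, 16, 23, 21],
  [7, 13, 25, 31, 10, 9, 33],
  [7, 15, 25, 33, 28],
  [7, 16, 25, 34, 23],
  [2, 30, 9, 33, 2, 30, 9, 33]]

/-- the cubes of the generators -/
def cubeL : List (List ℕ) := (List.range 18).map fun i => [i, i, i]

/-- the trivial relators -/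
def invL : List (List ℕ) := [] :: (List.range 36).map fun l => [l, linv l]

/-- all the relators -/
def relL : List (List ℕ) :=
  cubeL ++ invL ++ stL.map (fun s => stWord s.1 s.2.1 s.2.2) ++ commL.map (fun p => commWord p.1 p.2) ++
    cenL.flatMap (fun c => (List.range 18).map (cenWord c))

/-- the generators of the subgroup: the elements of `G₂(3)` -/
def subL : List (List ℕ) := [[0], [1], [2], [3], [4], [5], [6], [7], [8], [9], [10], [11]]

/-- the long root element in position `(a, b)` -/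
def pos4 (a b : Fin 4) : ℕ :=
  match a.val, b.val with
  | 0, 1 => 0
  | 1, 2 => 6
  | 0, 2 => 1
  | 2, 0 => 10
  | 2, 1 => 5
  | 1, 0 => 11
  | 0, 3 => 12
  | 1, 3 => 13
  | 2, 3 => 14
  | 3, 0 => 15
  | 3, 1 => 16
  | 3, 2 => 17
  | _, _ => 18

section ev

variable {G : Type*} [Group G]

/-- the value of a letter -/
def lv (x : ℕ → G) (l : ℕ) : G := if (l / 18) % 2 = 0 then x (l % 18) else (x (l % 18))⁻¹

/-- the value of a word -/
def ev (x : ℕ → G) (w : List ℕ) : G := (w.map (lv x)).prod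

theorem ev_nil (x : ℕ → G) : ev x [] = 1 := rfl

theorem ev_cons (x : ℕ → G) (l : ℕ) (w : List ℕ) : ev x (l :: w) = lv x l * ev x w := by
  unfold ev
  rw [List.map_cons, List.prod_cons]

theorem ev_append (x : ℕ → G) (w w' : List ℕ) : ev x (w ++ w') = ev x w * ev x w' := by
  unfold ev
  rw [List.map_append, List.prod_append]

theorem ev_single (x : ℕ → G) (l : ℕ) : ev x [l] = lv x l := by
  rw [ev_cons, ev_nil, mul_one]

theorem lv_linv (x : ℕ → G) (l : ℕ) : lv x (linv l) = (lv x l)⁻¹ := by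
  unfold lv linv
  by_cases h : (l / 18) % 2 = 0
  · rw [if_pos h, if_pos h]
    have h1 : ¬ ((l + 18) / 18) % 2 = 0 := by omega
    have h2 : (l + 18) % 18 = l % 18 := by omega
    rw [if_neg h1, h2]
  · rw [if_neg h, if_neg h]
    have h1 : ((l - 18) / 18) % 2 = 0 := by omega
    have h2 : (l - 18) % 18 = l % 18 := by omega
    rw [if_pos h1, h2, inv_inv]

theorem ev_winv (x : ℕ → G) (w : List ℕ) : ev x (winv w) = (ev x w)⁻¹ := by
  induction w with
  | nil => simp [winv, ev]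
  | cons l w ih =>
    have e : winv (l :: w) = winv w ++ [linv l] := by
      unfold winv
      rw [List.map_cons, List.reverse_cons]
    rw [e, ev_append, ih, ev_single, lv_linv, ev_cons, mul_inv_rev]

theorem ev_stWord (x : ℕ → G) (a b c : ℕ) :
    ev x (stWord a b c) = lv x a * lv x b * (lv x a)⁻¹ * (lv x b)⁻¹ * (lv x c)⁻¹ := by
  unfold stWord
  rw [ev_cons, ev_cons, ev_cons, ev_cons, ev_single, lv_linv, lv_linv, lv_linv]
  group

theorem ev_commWord (x : ℕ → G) (a b : ℕ) :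
    ev x (commWord a b) = lv x a * lv x b * (lv x a)⁻¹ * (lv x b)⁻¹ := by
  unfold commWord
  rw [ev_cons, ev_cons, ev_cons, ev_single, lv_linv, lv_linv]
  group

theorem ev_cenWord (x : ℕ → G) (c : List ℕ) (q : ℕ) :
    ev x (cenWord c q) = ev x c * lv x q * (ev x c)⁻¹ * (lv x q)⁻¹ := by
  unfold cenWord
  rw [ev_append, ev_append, ev_append, ev_single, ev_single, ev_winv, lv_linv]

theorem lv_of_lt (x : ℕ → G) {i : ℕ} (hi : i < 18) : lv x i = x i := by
  unfold lv
  have h1 : (i / 18) % 2 = 0 := by omega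
  have h2 : i % 18 = i := by omega
  rw [if_pos h1, h2]

theorem map_lv {H : Type*} [Group H] (σ : G →* H) (x : ℕ → G) (l : ℕ) :
    σ (lv x l) = lv (fun i => σ (x i)) l := by
  unfold lv
  split_ifs
  · rfl
  · rw [map_inv]

theorem map_ev {H : Type*} [Group H] (σ : G →* H) (x : ℕ → G) (w : List ℕ) :
    σ (ev x w) = ev (fun i => σ (x i)) w := by
  induction w with
  | nil => rw [ev_nil, ev_nil, map_one]
  | cons l w ih => rw [ev_cons, ev_cons, map_mul, ih, map_lv]

/-- the relations in structured form -/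
structure Rels (x : ℕ → G) : Prop where
  cube : ∀ i < 18, x i ^ 3 = 1
  st : ∀ s ∈ stL, x s.1 * x s.2.1 * (x s.1)⁻¹ * (x s.2.1)⁻¹ = x s.2.2
  comm : ∀ p ∈ commL, x p.1 * x p.2 = x p.2 * x p.1
  cen : ∀ c ∈ cenL, ∀ q < 18, ev x c * x q = x q * ev x c

theorem stL_lt : ∀ s ∈ stL, s.1 < 18 ∧ s.2.1 < 18 ∧ s.2.2 < 18 := by decide

theorem commL_lt : ∀ p ∈ commL, p.1 < 18 ∧ p.2 < 18 := by decide

theorem Rels.ev_eq_one {x : ℕ → G} (h : Rels x) : ∀ w ∈ relL, ev x w = 1 := by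
  intro w hw
  unfold relL at hw
  simp only [List.mem_append, List.mem_map, List.mem_flatMap, List.mem_range] at hw
  rcases hw with (((hw | hw) | ⟨s, hs, rfl⟩) | ⟨p, hp, rfl⟩) | ⟨c, hc, q, hq, rfl⟩
  · unfold cubeL at hw
    obtain ⟨i, hi, rfl⟩ := List.mem_map.mp hw
    rw [List.mem_range] at hi
    rw [ev_cons, ev_cons, ev_single, lv_of_lt x hi, ← mul_assoc, ← pow_two, ← pow_succ]
    exact h.cube i hi
  · unfold invL at hw
    rcases List.mem_cons.mp hw with rfl | hw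
    · rfl
    · obtain ⟨l, -, rfl⟩ := List.mem_map.mp hw
      rw [ev_cons, ev_single, lv_linv, mul_inv_cancel]
  · obtain ⟨h1, h2, h3⟩ := stL_lt s hs
    rw [ev_stWord, lv_of_lt x h1, lv_of_lt x h2, lv_of_lt x h3, h.st s hs, mul_inv_cancel]
  · obtain ⟨h1, h2⟩ := commL_lt p hp
    rw [ev_commWord, lv_of_lt x h1, lv_of_lt x h2, h.comm p hp]
    group
  · rw [ev_cenWord, lv_of_lt x hq, h.cen c hc q hq]
    group

theorem rels_of_ev_eq_one {x : ℕ → G} (h : ∀ w ∈ relL, ev x w = 1) : Rels x := by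
  have mem1 : ∀ i < 18, [i, i, i] ∈ relL := by
    intro i hi
    unfold relL
    simp only [List.mem_append]
    left; left; left; left
    exact List.mem_map.mpr ⟨i, List.mem_range.mpr hi, rfl⟩
  have mem2 : ∀ s ∈ stL, stWord s.1 s.2.1 s.2.2 ∈ relL := by
    intro s hs
    unfold relL
    simp only [List.mem_append]
    left; left; right
    exact List.mem_map.mpr ⟨s, hs, rfl⟩
  have mem3 : ∀ p ∈ commL, commWord p.1 p.2 ∈ relL := by
    intro p hp
    unfold relL
    simp only [List.mem_append]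
    left; right
    exact List.mem_map.mpr ⟨p, hp, rfl⟩
  have mem4 : ∀ c ∈ cenL, ∀ q < 18, cenWord c q ∈ relL := by
    intro c hc q hq
    unfold relL
    simp only [List.mem_append]
    right
    exact List.mem_flatMap.mpr ⟨c, hc, List.mem_map.mpr ⟨q, List.mem_range.mpr hq, rfl⟩⟩
  refine ⟨?_, ?_, ?_, ?_⟩
  · intro i hi
    have := h _ (mem1 i hi)
    rw [ev_cons, ev_cons, ev_single, lv_of_lt x hi] at this
    rw [pow_succ, pow_two, mul_assoc]
    exact this
  · intro s hs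
    obtain ⟨h1, h2, h3⟩ := stL_lt s hs
    have := h _ (mem2 s hs)
    rw [ev_stWord, lv_of_lt x h1, lv_of_lt x h2, lv_of_lt x h3, mul_inv_eq_one] at this
    exact this
  · intro p hp
    obtain ⟨h1, h2⟩ := commL_lt p hp
    have := h _ (mem3 p hp)
    rw [ev_commWord, lv_of_lt x h1, lv_of_lt x h2, mul_inv_eq_one, mul_inv_eq_iff_eq_mul] at this
    exact this
  · intro c hc q hq
    have := h _ (mem4 c hc q hq)
    rw [ev_cenWord, lv_of_lt x hq, mul_inv_eq_one, mul_inv_eq_iff_eq_mul] at this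
    exact this

end ev

section link

variable {G : Type*} [Group G]

/-- the letters of `G23M` as letters here -/
def remap (l : ℕ) : ℕ := if l < 12 then l else l + 6

theorem lv_remap (x : ℕ → G) (l : ℕ) (hl : l < 24) : lv x (remap l) = G23M.lv x l := by
  unfold lv G23M.lv remap
  by_cases h : l < 12
  · rw [if_pos h]
    have h1 : (l / 18) % 2 = 0 := by omega
    have h2 : (l / 12) % 2 = 0 := by omega
    have h3 : l % 18 = l := by omega
    have h4 : l % 12 = l := by omega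
    rw [if_pos h1, if_pos h2, h3, h4]
  · rw [if_neg h]
    have h1 : ¬ ((l + 6) / 18) % 2 = 0 := by omega
    have h2 : ¬ (l / 12) % 2 = 0 := by omega
    have h3 : (l + 6) % 18 = l % 12 := by omega
    rw [if_neg h1, if_neg h2, h3]

theorem ev_remap (x : ℕ → G) (w : List ℕ) (hw : ∀ l ∈ w, l < 24) : ev x (w.map remap) = G23M.ev x w := by
  induction w with
  | nil => rfl
  | cons l w ih =>
    rw [List.map_cons, ev_cons, G23M.ev_cons, lv_remap x l (hw l List.mem_cons_self),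
      ih (fun l' hl' => hw l' (List.mem_cons_of_mem _ hl'))]

theorem g2_cen_lt : ∀ c ∈ G23M.cenL, ∀ l ∈ c, l < 24 := by decide

theorem g2_cen_mem : ∀ c ∈ G23M.cenL, c.map remap ∈ cenL := by decide

theorem g2_st_mem : ∀ s ∈ G23M.stL, s ∈ stL := by decide

theorem g2_comm_mem : ∀ p ∈ G23M.commL, p ∈ commL := by decide

/-- the first twelve generators satisfy the relations of the triple cover of `G₂(3)` -/
theorem Rels.toG2 {x : ℕ → G} (h : Rels x) : G23M.Rels x where
  cube := fun i hi => h.cube i (by omega)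
  st := fun s hs => h.st s (g2_st_mem s hs)
  comm := fun p hp => h.comm p (g2_comm_mem p hp)
  cen := fun c hc q hq => by
    have := h.cen _ (g2_cen_mem c hc) q (by omega)
    rw [ev_remap x c (g2_cen_lt c hc)] at this
    exact this

theorem pos4_st : ∀ a b c : Fin 4, a ≠ b → b ≠ c → a ≠ c → (pos4 a b, pos4 b c, pos4 a c) ∈ stL := by decide

set_option synthInstance.maxSize 4000 in
theorem pos4_comm : ∀ a b c d : Fin 4, a ≠ b → c ≠ d → a ≠ d → b ≠ c →
    pos4 a b = pos4 c d ∨ (pos4 a b, pos4 c d) ∈ commL ∨ (pos4 c d, pos4 a b) ∈ commL := by decide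

theorem pos4_lt : ∀ a b : Fin 4, a ≠ b → pos4 a b < 18 := by decide

/-- the Steinberg relations of `SL_n(3)` for a family of elements -/
structure StRel (n : ℕ) (y : Fin n → Fin n → G) : Prop where
  cube : ∀ a b, a ≠ b → y a b ^ 3 = 1
  comm : ∀ a b c d, a ≠ b → c ≠ d → a ≠ d → b ≠ c → y a b * y c d = y c d * y a b
  st : ∀ a b c, a ≠ b → b ≠ c → a ≠ c → y a b * y b c * (y a b)⁻¹ * (y b c)⁻¹ = y a c

/-- the twelve long root elements satisfy the Steinberg relations of `SL₄(3)` -/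
theorem Rels.stRel4 {x : ℕ → G} (h : Rels x) : StRel 4 (fun a b => x (pos4 a b)) where
  cube := fun a b hab => h.cube _ (pos4_lt a b hab)
  comm := fun a b c d hab hcd had hbc => by
    rcases pos4_comm a b c d hab hcd had hbc with e | e | e
    · show x (pos4 a b) * x (pos4 c d) = x (pos4 c d) * x (pos4 a b)
      rw [e]
    · exact h.comm _ e
    · exact (h.comm _ e).symm
  st := fun a b c hab hbc hac => h.st _ (pos4_st a b c hab hbc hac)

theorem lv_congr {x y : ℕ → G} (hxy : ∀ i < 18, x i = y i) (l : ℕ) : lv x l = lv y l := by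
  unfold lv
  have h : l % 18 < 18 := Nat.mod_lt _ (by norm_num)
  rw [hxy _ h]

theorem ev_congr {x y : ℕ → G} (hxy : ∀ i < 18, x i = y i) (w : List ℕ) : ev x w = ev y w := by
  induction w with
  | nil => rfl
  | cons l w ih => rw [ev_cons, ev_cons, ih, lv_congr hxy]

set_option synthInstance.maxSize 4000 in
theorem stL_cases : ∀ s ∈ stL, s ∈ G23M.stL ∨
    ∃ a b c : Fin 4, a ≠ b ∧ b ≠ c ∧ a ≠ c ∧ s = (pos4 a b, pos4 b c, pos4 a c) := by decide

set_option synthInstance.maxSize 4000 in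
theorem commL_cases : ∀ p ∈ commL, p ∈ G23M.commL ∨
    ∃ a b c d : Fin 4, a ≠ b ∧ c ≠ d ∧ a ≠ d ∧ b ≠ c ∧ p = (pos4 a b, pos4 c d) := by decide

end link

end Cfsg.Agent.Lib.H28.O73M
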