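import Cfsg.Agent.Lib.H28.O73M.GSTabs

set_option autoImplicit false
set_option maxRecDepth 100000

/-! # The tables of the generators of `Ω₇(3)` are right (generated; helper28) -/

namespace Cfsg.Agent.Lib.H28.O73M.GS

open Matrix Cfsg.Agent.Lib.H17.O7Vec

theorem tab_ok_6 : ∀ y : Fin 2187, (enc (ofTbl m6 *ᵥ dec y)).val = lk12 t6 y.val := by
  decide +kernel

theorem tab_ok_7 : ∀ y : Fin 2187, (enc (ofTbl m7 *ᵥ dec y)).val = lk12 t7 y.val := by
  decide +kernel

theorem tab_ok_8 : ∀ y : Fin 2187, (enc (ofTbl m8 *ᵥ dec y)).val = lk12 t8 y.val := by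
  decide +kernel

theorem tab_ok_9 : ∀ y : Fin 2187, (enc (ofTbl m9 *ᵥ dec y)).val = lk12 t9 y.val := by
  decide +kernel

theorem tab_ok_10 : ∀ y : Fin 2187, (enc (ofTbl m10 *ᵥ dec y)).val = lk12 t10 y.val := by
  decide +kernel

theorem tab_ok_11 : ∀ y : Fin 2187, (enc (ofTbl m11 *ᵥ dec y)).val = lk12 t11 y.val := by
  decide +kernel

end Cfsg.Agent.Lib.H28.O73M.GS
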