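import Cfsg.Agent.Lib.H28.O73M.GSTabs

set_option autoImplicit false
set_option maxRecDepth 100000

/-! # The tables of the generators of `Ω₇(3)` are right (generated; helper28) -/

namespace Cfsg.Agent.Lib.H28.O73M.GS

open Matrix Cfsg.Agent.Lib.H17.O7Vec

theorem tab_ok_12 : ∀ y : Fin 2187, (enc (ofTbl m12 *ᵥ dec y)).val = lk12 t12 y.val := by
  decide +kernel

theorem tab_ok_13 : ∀ y : Fin 2187, (enc (ofTbl m13 *ᵥ dec y)).val = lk12 t13 y.val := by
  decide +kernel

theorem tab_ok_14 : ∀ y : Fin 2187, (enc (ofTbl m14 *ᵥ dec y)).val = lk12 t14 y.val := by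
  decide +kernel

theorem tab_ok_15 : ∀ y : Fin 2187, (enc (ofTbl m15 *ᵥ dec y)).val = lk12 t15 y.val := by
  decide +kernel

theorem tab_ok_16 : ∀ y : Fin 2187, (enc (ofTbl m16 *ᵥ dec y)).val = lk12 t16 y.val := by
  decide +kernel

theorem tab_ok_17 : ∀ y : Fin 2187, (enc (ofTbl m17 *ᵥ dec y)).val = lk12 t17 y.val := by
  decide +kernel

end Cfsg.Agent.Lib.H28.O73M.GS
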