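import Cfsg.Agent.Lib.H28.O73M.GSChkA
import Cfsg.Agent.Lib.H28.O73M.GSChkB
import Cfsg.Agent.Lib.H28.O73M.GSChkC
import Cfsg.Agent.Lib.H28.O73M.Words
import Cfsg.Agent.Lib.H17.O7Main

set_option autoImplicit false
set_option maxRecDepth 100000

/-!
# Eighteen generators of `Ω₇(3)` with the relations `Rels` (helper28)

The generators are explicit matrices; their action on the `2187` vectors is tabulated (`GSTabs`, `GSChk*`).  A word is
trivial as soon as it fixes the seven basis vectors, so the relations are checked by tracing `7` points per word.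
-/

namespace Cfsg.Agent.Lib.H28.O73M.GS

open Matrix Cfsg.Agent.Lib.H17.O7Vec Cfsg.Agent.Lib.H17.O7Refl Cfsg.Agent.Lib.H17.O7Lines Cfsg.Agent.Lib.H17.O7T
  Cfsg.Agent.Lib.H17.O7Main Cfsg.Agent.Lib.H28.O73M

open scoped commutatorElement

/-- a loop over the numbers below a bound -/
def allB (p : ℕ → Bool) : ℕ → Bool
  | 0 => true
  | n + 1 => p n && allB p n

theorem allB_sound (p : ℕ → Bool) (n : ℕ) (h : allB p n = true) : ∀ i < n, p i = true := by
  induction n with
  | zero =>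
    intro i hi
    omega
  | succ n ih =>
    have h' : (p n && allB p n) = true := h
    rw [Bool.and_eq_true] at h'
    intro i hi
    rcases Nat.lt_succ_iff_lt_or_eq.mp hi with hlt | rfl
    · exact ih h'.2 i hlt
    · exact h'.1

/-- the matrices -/
def gM (l : ℕ) : Matrix I7 I7 (ZMod 3) := ofTbl (mats l)

theorem tab_ok : ∀ l < 18, ∀ y : Fin 2187, (enc (gM l *ᵥ dec y)).val = lk12 (tabs l) y.val := by
  intro l hl
  interval_cases l
  · exact tab_ok_0
  · exact tab_ok_1
  · exact tab_ok_2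
  · exact tab_ok_3
  · exact tab_ok_4
  · exact tab_ok_5
  · exact tab_ok_6
  · exact tab_ok_7
  · exact tab_ok_8
  · exact tab_ok_9
  · exact tab_ok_10
  · exact tab_ok_11
  · exact tab_ok_12
  · exact tab_ok_13
  · exact tab_ok_14
  · exact tab_ok_15
  · exact tab_ok_16
  · exact tab_ok_17

theorem gM_cube : ∀ l < 18, gM l * (gM l * gM l) = 1 := by
  decide +kernel

/-- the units -/
def gU (l : ℕ) (hl : l < 18) : GL7 :=
  ⟨gM l, gM l * gM l, gM_cube l hl, by rw [Matrix.mul_assoc]; exact gM_cube l hl⟩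

theorem mulVec_dec (l : ℕ) (hl : l < 18) (y : Fin 2187) : gM l *ᵥ dec y = decN (lk12 (tabs l) y.val) := by
  have h := tab_ok l hl y
  have h2 : dec (enc (gM l *ᵥ dec y)) = gM l *ᵥ dec y := dec_enc _
  rw [← h2]
  change decN (enc (gM l *ᵥ dec y)).val = _
  rw [h]

/-- the quadratic form on the numbers of the vectors -/
def Qn (x : ℕ) : ℕ :=
  ((x % 3) * (x % 3) + (x / 3 % 3) * (x / 81 % 3) + (x / 9 % 3) * (x / 243 % 3) + (x / 27 % 3) * (x / 729 % 3)) % 3

theorem Q_dec : ∀ y : Fin 2187, (Q (dec y)).val = Qn y.val := by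
  decide +kernel

theorem range_chk : ∀ l < 36, allB (fun y => decide (lk12 (tabs l) y < 2187)) 2187 = true := by
  decide +kernel

theorem range_ok (l : ℕ) (hl : l < 36) (y : ℕ) (hy : y < 2187) : lk12 (tabs l) y < 2187 :=
  of_decide_eq_true (allB_sound _ _ (range_chk l hl) y hy)

theorem isom_chk : ∀ l < 18, allB (fun y => decide (Qn (lk12 (tabs l) y) = Qn y)) 2187 = true := by
  decide +kernel

theorem isom_ok (l : ℕ) (hl : l < 18) (y : ℕ) (hy : y < 2187) : Qn (lk12 (tabs l) y) = Qn y :=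
  of_decide_eq_true (allB_sound _ _ (isom_chk l hl) y hy)

theorem gU_mem (l : ℕ) (hl : l < 18) : gU l hl ∈ O7 := by
  rw [mem_O7]
  intro u
  obtain ⟨y, rfl⟩ : ∃ y, u = dec y := ⟨enc u, (dec_enc u).symm⟩
  change Q (gM l *ᵥ dec y) = Q (dec y)
  rw [mulVec_dec l hl]
  have hz : lk12 (tabs l) y.val < 2187 := range_ok l (by omega) y.val y.2
  change Q (dec ⟨lk12 (tabs l) y.val, hz⟩) = Q (dec y)
  apply ZMod.val_injective 3
  rw [Q_dec, Q_dec]
  exact isom_ok l hl y.val y.2

/-- the generators in the orthogonal group -/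
noncomputable def gO (l : ℕ) : O7 := if hl : l < 18 then ⟨gU l hl, gU_mem l hl⟩ else 1

theorem mat_gO (l : ℕ) (hl : l < 18) : mat (gO l) = gM l := by
  unfold gO
  rw [dif_pos hl]
  rfl

theorem ρ_gO (l : ℕ) (hl : l < 18) (y : Fin 2187) : (ρ (gO l) y).val = lk12 (tabs l) y.val := by
  rw [ρ_apply, mat_gO l hl]
  exact tab_ok l hl y

theorem inv_chk : ∀ l < 18, allB (fun y => decide (lk12 (tabs l) (lk12 (tabs (l + 18)) y) = y)) 2187 = true := by
  decide +kernel

theorem inv_ok (l : ℕ) (hl : l < 18) (y : ℕ) (hy : y < 2187) : lk12 (tabs l) (lk12 (tabs (l + 18)) y) = y :=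
  of_decide_eq_true (allB_sound _ _ (inv_chk l hl) y hy)

theorem ρ_lv (l : ℕ) (hl : l < 36) (y : Fin 2187) : (ρ (lv gO l) y).val = lk12 (tabs l) y.val := by
  by_cases h : l < 18
  · rw [lv_of_lt gO h]
    exact ρ_gO l h y
  · have h1 : ¬ (l / 18) % 2 = 0 := by omega
    have h2 : l % 18 = l - 18 := by omega
    unfold lv
    rw [if_neg h1, h2, map_inv]
    have hz : lk12 (tabs l) y.val < 2187 := range_ok l hl y.val y.2
    have h3 : (ρ (gO (l - 18)))⁻¹ y = ⟨lk12 (tabs l) y.val, hz⟩ := by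
      rw [Equiv.Perm.inv_eq_iff_eq]
      apply Fin.ext
      rw [ρ_gO (l - 18) (by omega)]
      have h4 := inv_ok (l - 18) (by omega) y.val y.2
      rw [show l - 18 + 18 = l by omega] at h4
      exact h4.symm
    rw [h3]

/-- the action of a word on the numbers of the vectors -/
def actW (w : List ℕ) (y : ℕ) : ℕ := w.foldr (fun l a => lk12 (tabs l) a) y

theorem ρ_ev (w : List ℕ) (hw : ∀ l ∈ w, l < 36) (y : Fin 2187) : (ρ (ev gO w) y).val = actW w y.val := by
  induction w with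
  | nil =>
    rw [ev_nil, map_one]
    rfl
  | cons l w ih =>
    rw [ev_cons, map_mul, Equiv.Perm.mul_apply, ρ_lv l (hw l List.mem_cons_self),
      ih (fun k hk => hw k (List.mem_cons_of_mem _ hk))]
    rfl

/-- the number of a basis vector -/
def code (j : I7) : ℕ := 3 ^ (pos7 j).val

theorem code_lt : ∀ j : I7, code j < 2187 := by decide +kernel

theorem decN_code : ∀ j : I7, decN (code j) = Pi.single j 1 := by decide +kernel

theorem eq_of_basis (M N : O7)
    (h : ∀ j : I7, ρ M ⟨code j, code_lt j⟩ = ρ N ⟨code j, code_lt j⟩) : M = N := by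
  apply Subtype.ext
  apply Units.ext
  change mat M = mat N
  ext i j
  have h1 := h j
  rw [ρ_apply, ρ_apply] at h1
  have h2 := congrArg dec h1
  rw [dec_enc, dec_enc] at h2
  have h3 : dec ⟨code j, code_lt j⟩ = Pi.single j 1 := decN_code j
  rw [h3, Matrix.mulVec_single_one, Matrix.mulVec_single_one] at h2
  exact congrFun h2 i

/-- the numbers of the basis vectors -/
def basisL : List ℕ := [1, 3, 9, 27, 81, 243, 729]

theorem code_mem : ∀ j : I7, code j ∈ basisL := by decide +kernel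

/-- the words that are checked -/
def chkL : List (List ℕ) :=
  cubeL ++ stL.map (fun s => stWord s.1 s.2.1 s.2.2) ++ commL.map (fun p => commWord p.1 p.2) ++ cenL

theorem chk_ok : ∀ w ∈ chkL, ∀ b ∈ basisL, actW w b = b := by
  decide +kernel

theorem chk_lt : ∀ w ∈ chkL, ∀ l ∈ w, l < 36 := by
  decide +kernel

theorem ev_eq_one (w : List ℕ) (hw : w ∈ chkL) : ev gO w = 1 := by
  apply eq_of_basis
  intro j
  apply Fin.ext
  rw [ρ_ev w (chk_lt w hw), map_one]
  exact chk_ok w hw (code j) (code_mem j)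

theorem rels_gO : Rels gO := by
  refine ⟨?_, ?_, ?_, ?_⟩
  · intro i hi
    have hm : [i, i, i] ∈ chkL := by
      apply List.mem_append_left
      apply List.mem_append_left
      apply List.mem_append_left
      exact List.mem_map.mpr ⟨i, List.mem_range.mpr hi, rfl⟩
    have h := ev_eq_one _ hm
    rw [ev_cons, ev_cons, ev_single, lv_of_lt _ hi, ← mul_assoc, ← pow_two, ← pow_succ] at h
    exact h
  · intro s hs
    obtain ⟨h1, h2, h3⟩ := stL_lt s hs
    have hm : stWord s.1 s.2.1 s.2.2 ∈ chkL := by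
      apply List.mem_append_left
      apply List.mem_append_left
      apply List.mem_append_right
      exact List.mem_map.mpr ⟨s, hs, rfl⟩
    have h := ev_eq_one _ hm
    rw [ev_stWord, lv_of_lt _ h1, lv_of_lt _ h2, lv_of_lt _ h3, mul_inv_eq_one] at h
    exact h
  · intro p hp
    obtain ⟨h1, h2⟩ := commL_lt p hp
    have hm : commWord p.1 p.2 ∈ chkL := by
      apply List.mem_append_left
      apply List.mem_append_right
      exact List.mem_map.mpr ⟨p, hp, rfl⟩
    have h := ev_eq_one _ hm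
    rw [ev_commWord, lv_of_lt _ h1, lv_of_lt _ h2, mul_inv_eq_one, mul_inv_eq_iff_eq_mul] at h
    exact h
  · intro c hc q _
    rw [ev_eq_one c (List.mem_append_right _ hc), one_mul, mul_one]

theorem gen_comm : ∀ i < 18, ∃ s ∈ stL, s.2.2 = i := by decide

theorem gO_mem (i : ℕ) (hi : i < 18) : gO i ∈ Om := by
  obtain ⟨s, hs, rfl⟩ := gen_comm i hi
  have h := rels_gO.st s hs
  rw [← h]
  change _ ∈ commutator O7
  rw [commutator_def]
  have h2 : gO s.1 * gO s.2.1 * (gO s.1)⁻¹ * (gO s.2.1)⁻¹ = ⁅gO s.1, gO s.2.1⁆ :=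
    (commutatorElement_def _ _).symm
  rw [h2]
  exact Subgroup.commutator_mem_commutator (Subgroup.mem_top _) (Subgroup.mem_top _)

/-- the generators in the commutator subgroup -/
noncomputable def X (i : ℕ) : ↥Om := if hi : i < 18 then ⟨gO i, gO_mem i hi⟩ else 1

theorem coe_X (i : ℕ) (hi : i < 18) : ((X i : ↥Om) : O7) = gO i := by
  unfold X
  rw [dif_pos hi]

theorem subtype_ev (w : List ℕ) : ((ev X w : ↥Om) : O7) = ev gO w := by
  have h := map_ev (Subgroup.subtype Om) X w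
  have h2 : ev (fun i => (Subgroup.subtype Om) (X i)) w = ev gO w := ev_congr (fun i hi => coe_X i hi) w
  rw [h2] at h
  exact h

theorem rels_X : Rels X := by
  apply rels_of_ev_eq_one
  intro w hw
  apply Subtype.ext
  rw [subtype_ev, Subgroup.coe_one]
  exact rels_gO.ev_eq_one w hw

theorem cen_X : ∀ c ∈ cenL, ev X c = 1 := by
  intro c hc
  apply Subtype.ext
  rw [subtype_ev, Subgroup.coe_one]
  exact ev_eq_one c (List.mem_append_right _ hc)

/-! ## Generation -/

/-- words for the eight reflections of helper17 -/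
def tgw : ℕ → List ℕ
  | 0 => [26, 9, 30, 26, 30, 34, 31, 21, 27, 8]
  | 1 => [1, 20, 33, 30, 27, 19]
  | 2 => [30, 26, 30, 34, 31, 21]
  | 3 => [2, 32, 35, 31, 25, 31, 22, 20]
  | 4 => [4, 21, 31, 34, 26, 22]
  | 5 => [1, 31, 34, 32, 26, 32, 21, 19]
  | 6 => [32, 35, 30, 25, 30, 22]
  | _ => [2, 35, 32, 33, 22, 33, 25, 20]

theorem tgw_lt : ∀ k < 8, ∀ l ∈ tgw k, l < 36 := by decide

theorem tg_chk0 : ∀ j : I7, (enc (-dec ⟨code j, code_lt j⟩ - B (dec ⟨code j, code_lt j⟩) v0 • v0)).val =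
    actW (tgw 0) (code j) := by
  decide +kernel

theorem tg_chk1 : ∀ j : I7, (enc (-dec ⟨code j, code_lt j⟩ - B (dec ⟨code j, code_lt j⟩) v1 • v1)).val =
    actW (tgw 1) (code j) := by
  decide +kernel

theorem tg_chk2 : ∀ j : I7, (enc (-dec ⟨code j, code_lt j⟩ - B (dec ⟨code j, code_lt j⟩) v2 • v2)).val =
    actW (tgw 2) (code j) := by
  decide +kernel

theorem tg_chk3 : ∀ j : I7, (enc (-dec ⟨code j, code_lt j⟩ - B (dec ⟨code j, code_lt j⟩) v3 • v3)).val =
    actW (tgw 3) (code j) := by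
  decide +kernel

theorem tg_chk4 : ∀ j : I7, (enc (-dec ⟨code j, code_lt j⟩ - B (dec ⟨code j, code_lt j⟩) v4 • v4)).val =
    actW (tgw 4) (code j) := by
  decide +kernel

theorem tg_chk5 : ∀ j : I7, (enc (-dec ⟨code j, code_lt j⟩ - B (dec ⟨code j, code_lt j⟩) v5 • v5)).val =
    actW (tgw 5) (code j) := by
  decide +kernel

theorem tg_chk6 : ∀ j : I7, (enc (-dec ⟨code j, code_lt j⟩ - B (dec ⟨code j, code_lt j⟩) v6 • v6)).val =
    actW (tgw 6) (code j) := by
  decide +kernel

theorem tg_chk7 : ∀ j : I7, (enc (-dec ⟨code j, code_lt j⟩ - B (dec ⟨code j, code_lt j⟩) v7 • v7)).val =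
    actW (tgw 7) (code j) := by
  decide +kernel

theorem ρ_nr_code (v : V7) (hv : Q v = 2) (j : I7) :
    (ρ (nr v hv) ⟨code j, code_lt j⟩).val =
      (enc (-dec ⟨code j, code_lt j⟩ - B (dec ⟨code j, code_lt j⟩) v • v)).val := by
  rw [ρ_apply, nr_mulVec]

theorem tg_eq (k : Fin 8) : tg k = ev gO (tgw k.val) := by
  apply eq_of_basis
  intro j
  apply Fin.ext
  rw [ρ_ev _ (tgw_lt k.val k.2)]
  fin_cases k
  · exact (ρ_nr_code v0 nrm0 j).trans (tg_chk0 j)
  · exact (ρ_nr_code v1 nrm1 j).trans (tg_chk1 j)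
  · exact (ρ_nr_code v2 nrm2 j).trans (tg_chk2 j)
  · exact (ρ_nr_code v3 nrm3 j).trans (tg_chk3 j)
  · exact (ρ_nr_code v4 nrm4 j).trans (tg_chk4 j)
  · exact (ρ_nr_code v5 nrm5 j).trans (tg_chk5 j)
  · exact (ρ_nr_code v6 nrm6 j).trans (tg_chk6 j)
  · exact (ρ_nr_code v7 nrm7 j).trans (tg_chk7 j)

theorem ev_mem_closure {G : Type*} [Group G] (x : ℕ → G) (w : List ℕ) :
    ev x w ∈ Subgroup.closure {g : G | ∃ i < 18, g = x i} := by
  induction w with
  | nil =>
    rw [ev_nil]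
    exact Subgroup.one_mem _
  | cons l w ih =>
    rw [ev_cons]
    refine Subgroup.mul_mem _ ?_ ih
    have hx : x (l % 18) ∈ Subgroup.closure {g : G | ∃ i < 18, g = x i} :=
      Subgroup.subset_closure ⟨l % 18, Nat.mod_lt _ (by norm_num), rfl⟩
    unfold lv
    split_ifs
    · exact hx
    · exact Subgroup.inv_mem _ hx

theorem closure_gO : Subgroup.closure {g : O7 | ∃ i < 18, g = gO i} = Om := by
  apply le_antisymm
  · rw [Subgroup.closure_le]
    rintro g ⟨i, hi, rfl⟩
    exact gO_mem i hi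
  · change commutator O7 ≤ _
    rw [commutator_eq_T]
    unfold T
    rw [Subgroup.closure_le]
    rintro g ⟨k, rfl⟩
    rw [SetLike.mem_coe, tg_eq k]
    exact ev_mem_closure gO _

theorem closure_X : Subgroup.closure {g : ↥Om | ∃ i < 18, g = X i} = ⊤ := by
  apply Subgroup.map_injective (Subgroup.subtype_injective Om)
  rw [MonoidHom.map_closure, ← MonoidHom.range_eq_map, Subgroup.range_subtype]
  have h : (Subgroup.subtype Om '' {g : ↥Om | ∃ i < 18, g = X i}) = {g : O7 | ∃ i < 18, g = gO i} := by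
    ext g
    constructor
    · rintro ⟨_, ⟨i, hi, rfl⟩, rfl⟩
      exact ⟨i, hi, coe_X i hi⟩
    · rintro ⟨i, hi, rfl⟩
      exact ⟨X i, ⟨i, hi, rfl⟩, coe_X i hi⟩
  rw [h]
  exact closure_gO

/-- **GS18** -/
theorem exists_gens18 : ∃ X : ℕ → ↥Cfsg.Agent.Lib.H17.O7Main.Om,
    Subgroup.closure {g : ↥Cfsg.Agent.Lib.H17.O7Main.Om | ∃ i < 18, g = X i} = ⊤ ∧ Rels X ∧
      ∀ c ∈ cenL, ev X c = 1 :=
  ⟨X, closure_X, rels_X, cen_X⟩

end Cfsg.Agent.Lib.H28.O73M.GS
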