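import Cfsg.Agent.Lib.H17.M22M.MonoModel
import Cfsg.Agent.Lib.H28.O73M.Words
import Cfsg.Agent.Lib.H28.O73M.ModelTabsA
import Cfsg.Agent.Lib.H28.O73M.ModelTabsB

set_option autoImplicit false
set_option maxRecDepth 100000

/-!
# Two monomial permutation models of the sixfold cover of `Ω₇(3)` (helper28)

The 36 letters act on `Fin 1080 × ZMod 12` and on `Fin 756 × ZMod 12` by packed tables; the relators act trivially, the
central words act as shifts.
-/

namespace Cfsg.Agent.Lib.H28.O73M

open Cfsg.Agent.Lib.H17.MonoModel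

section perms

variable {tabs : ℕ → ℕ} {n : ℕ}

/-- the pair words are trivial on the tables -/
def PairsOK (tabs : ℕ → ℕ) (n : ℕ) : Prop :=
  ∀ x < 36, checkWordM [tabs x, tabs (linv x)] 0 n = true

theorem linv_linv (x : ℕ) (hx : x < 36) : linv (linv x) = x := by
  interval_cases x <;> rfl

theorem linv_lt (x : ℕ) (hx : x < 36) : linv x < 36 := by
  interval_cases x <;> decide

theorem fG_inv (hr : Range tabs n) (hp : PairsOK tabs n) (x : ℕ) (hx : x < 36)
    (q : Fin n × ZMod 12) : fM hr (linv x) (fM hr x q) = q := by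
  have h := compF_eq_shift hr [x, linv x] 0 (hp x hx) q
  have h2 : compF hr [x, linv x] q = fM hr (linv x) (fM hr x q) := rfl
  rw [h2] at h
  rw [h]
  apply Prod.ext
  · rfl
  · change q.2 + ((0 : ℕ) : ZMod 12) = q.2
    simp

open Classical in
/-- the permutation of a letter -/
noncomputable def σG (hr : Range tabs n) (hp : PairsOK tabs n) (x : ℕ) :
    Equiv.Perm (Fin n × ZMod 12) :=
  if hx : x < 36 then
    { toFun := fM hr x
      invFun := fM hr (linv x)
      left_inv := fun q => fG_inv hr hp x hx q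
      right_inv := fun q => by
        have := fG_inv hr hp (linv x) (linv_lt x hx) q
        rw [linv_linv x hx] at this
        exact this }
  else 1

theorem σG_apply (hr : Range tabs n) (hp : PairsOK tabs n) (x : ℕ) (hx : x < 36)
    (q : Fin n × ZMod 12) : σG hr hp x q = fM hr x q := by
  unfold σG
  rw [dif_pos hx]
  rfl

theorem word_permG (hr : Range tabs n) (hp : PairsOK tabs n) (w : List ℕ) (hw : ∀ x ∈ w, x < 36)
    (q : Fin n × ZMod 12) :
    ((w.map fun x => (σG hr hp x)⁻¹).prod)⁻¹ q = compF hr w q := by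
  induction w generalizing q with
  | nil => simp [compF_nil]
  | cons x u ih =>
    rw [List.map_cons, List.prod_cons, mul_inv_rev, inv_inv, Equiv.Perm.mul_apply,
      σG_apply hr hp x (hw x List.mem_cons_self), compF_cons]
    exact ih (fun y hy => hw y (List.mem_cons_of_mem _ hy)) _

theorem word_permG_eq (hr : Range tabs n) (hp : PairsOK tabs n) (w : List ℕ)
    (hw : ∀ x ∈ w, x < 36) (e : ℕ) (h : checkWordM (w.map tabs) e n = true) :
    (w.map fun x => (σG hr hp x)⁻¹).prod = (shiftP n (e : ZMod 12))⁻¹ := by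
  rw [← inv_inj, inv_inv]
  apply Equiv.ext
  intro q
  rw [word_permG hr hp w hw q, compF_eq_shift hr w e h q]
  rfl

theorem σG_inv (hr : Range tabs n) (hp : PairsOK tabs n) (x : ℕ) (hx : x < 36) :
    σG hr hp (linv x) = (σG hr hp x)⁻¹ := by
  apply Equiv.ext
  intro q
  rw [σG_apply hr hp _ (linv_lt x hx)]
  have : (σG hr hp x)⁻¹ q = fM hr (linv x) q := by
    rw [Equiv.Perm.inv_def]
    unfold σG
    rw [dif_pos hx]
    rfl
  rw [this]

/-- the generators of the model -/
noncomputable def yG (hr : Range tabs n) (hp : PairsOK tabs n) (i : ℕ) : Equiv.Perm (Fin n × ZMod 12) :=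
  (σG hr hp i)⁻¹

theorem lv_yG (hr : Range tabs n) (hp : PairsOK tabs n) (l : ℕ) (hl : l < 36) :
    lv (yG hr hp) l = (σG hr hp l)⁻¹ := by
  unfold lv yG
  by_cases h : (l / 18) % 2 = 0
  · have h2 : l % 18 = l := by omega
    rw [if_pos h, h2]
  · have h2 : l % 18 < 36 := by omega
    have h3 : linv (l % 18) = l := by
      unfold linv
      have : (l % 18 / 18) % 2 = 0 := by omega
      rw [if_pos this]
      omega
    rw [if_neg h, inv_inv, ← h3, σG_inv hr hp _ h2, inv_inv, h3]

theorem ev_yG (hr : Range tabs n) (hp : PairsOK tabs n) (w : List ℕ) (hw : ∀ x ∈ w, x < 36) :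
    ev (yG hr hp) w = (w.map fun x => (σG hr hp x)⁻¹).prod := by
  unfold ev
  congr 1
  apply List.map_congr_left
  intro l hl
  exact lv_yG hr hp l (hw l hl)

theorem ev_yG_eq (hr : Range tabs n) (hp : PairsOK tabs n) (w : List ℕ) (hw : ∀ x ∈ w, x < 36) (e : ℕ)
    (h : checkWordM (w.map tabs) e n = true) : ev (yG hr hp) w = (shiftP n (e : ZMod 12))⁻¹ := by
  rw [ev_yG hr hp w hw, word_permG_eq hr hp w hw e h]

theorem shiftP_commG (hr : Range tabs n) (hp : PairsOK tabs n) (x : ℕ) (hx : x < 36) (e : ZMod 12) :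
    Commute (shiftP n e) (σG hr hp x) := by
  apply Equiv.ext
  intro q
  change shiftP n e (σG hr hp x q) = σG hr hp x (shiftP n e q)
  rw [σG_apply hr hp x hx, σG_apply hr hp x hx, shiftP_apply, shiftP_apply, shift_fM]

end perms

theorem st_lt : ∀ s ∈ stL, ∀ x ∈ stWord s.1 s.2.1 s.2.2, x < 36 := by
  decide +kernel

theorem comm_lt : ∀ p ∈ commL, ∀ x ∈ commWord p.1 p.2, x < 36 := by
  decide +kernel

section generic

variable {tabs : ℕ → ℕ} {n : ℕ} (hr : Range tabs n) (hp : PairsOK tabs n) (cenE : List (List ℕ × ℕ))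
  (hfst : cenE.map Prod.fst = cenL)
  (hcube : ∀ i < 18, checkWordM ([i, i, i].map tabs) 0 n = true)
  (hst : ∀ s ∈ stL, checkWordM ((stWord s.1 s.2.1 s.2.2).map tabs) 0 n = true)
  (hcomm : ∀ p ∈ commL, checkWordM ((commWord p.1 p.2).map tabs) 0 n = true)
  (hcen : ∀ v ∈ cenE, checkWordM (v.1.map tabs) v.2 n = true)
  (hcenlt : ∀ v ∈ cenE, ∀ x ∈ v.1, x < 36)

include hcen hcenlt in
theorem ev_yG_cen {v : List ℕ × ℕ} (hv : v ∈ cenE) : ev (yG hr hp) v.1 = (shiftP n (v.2 : ZMod 12))⁻¹ :=
  ev_yG_eq hr hp v.1 (hcenlt v hv) v.2 (hcen v hv)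

include hfst hcube hst hcomm hcen hcenlt in
theorem rels_yG : Rels (yG hr hp) := by
  refine ⟨?_, ?_, ?_, ?_⟩
  · intro i hi
    have h := ev_yG_eq hr hp [i, i, i] (by
      intro x hx
      simp only [List.mem_cons, List.not_mem_nil, or_false, or_self] at hx
      omega) 0 (hcube i hi)
    rw [Nat.cast_zero, shiftP_zero, inv_one, ev_cons, ev_cons, ev_single, lv_of_lt _ hi, ← mul_assoc, ← pow_two,
      ← pow_succ] at h
    exact h
  · intro s hs
    obtain ⟨h1, h2, h3⟩ := stL_lt s hs
    have h := ev_yG_eq hr hp _ (st_lt s hs) 0 (hst s hs)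
    rw [Nat.cast_zero, shiftP_zero, inv_one, ev_stWord, lv_of_lt _ h1, lv_of_lt _ h2, lv_of_lt _ h3,
      mul_inv_eq_one] at h
    exact h
  · intro p hpp
    obtain ⟨h1, h2⟩ := commL_lt p hpp
    have h := ev_yG_eq hr hp _ (comm_lt p hpp) 0 (hcomm p hpp)
    rw [Nat.cast_zero, shiftP_zero, inv_one, ev_commWord, lv_of_lt _ h1, lv_of_lt _ h2, mul_inv_eq_one,
      mul_inv_eq_iff_eq_mul] at h
    exact h
  · intro c hc q hq
    rw [← hfst, List.mem_map] at hc
    obtain ⟨v, hv, rfl⟩ := hc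
    rw [ev_yG_cen hr hp cenE hcen hcenlt hv]
    have h := shiftP_commG hr hp q (by omega) (v.2 : ZMod 12)
    have h2 : Commute ((shiftP n (v.2 : ZMod 12))⁻¹) ((σG hr hp q)⁻¹) := h.inv_inv
    exact h2.eq

end generic

theorem lkM_zero (p : ℕ) : lkM 0 p = 0 := by
  unfold lkM
  simp

/-! ### the model on `Fin 1080 × ZMod 12` -/

namespace MA

open ModelA

theorem tabs_ge (x : ℕ) (hx : 36 ≤ x) : tabs x = 0 := by
  unfold tabs
  split <;> first | omega | rfl

theorem range_chk : ∀ x < 36, checkRangeM (tabs x) 1080 1080 = true := by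
  decide +kernel

theorem range_tabs : Range tabs 1080 := by
  intro x p hp
  by_cases hx : x < 36
  · exact checkRangeM_sound _ _ _ (range_chk x hx) p hp
  · rw [tabs_ge x (by omega), lkM_zero]
    norm_num

theorem pairs_tabs : PairsOK tabs 1080 := by
  unfold PairsOK
  decide +kernel

theorem cenE_fst : cenE.map Prod.fst = cenL := by
  decide +kernel

theorem cube_chk : ∀ i < 18, checkWordM ([i, i, i].map tabs) 0 1080 = true := by
  decide +kernel

theorem st_chk : ∀ s ∈ stL, checkWordM ((stWord s.1 s.2.1 s.2.2).map tabs) 0 1080 = true := by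
  decide +kernel

theorem comm_chk : ∀ p ∈ commL, checkWordM ((commWord p.1 p.2).map tabs) 0 1080 = true := by
  decide +kernel

theorem cen_chk : ∀ v ∈ cenE, checkWordM (v.1.map tabs) v.2 1080 = true := by
  decide +kernel

theorem cen_lt : ∀ v ∈ cenE, ∀ x ∈ v.1, x < 36 := by
  decide +kernel

end MA

/-- **the model detecting the central involution** -/
theorem exists_model2 : ∃ (M : Type) (_ : Group M) (y : ℕ → M),
    Rels y ∧ ev y [2, 30, 9, 33, 2, 30, 9, 33] ^ 3 ≠ 1 := by
  refine ⟨Equiv.Perm (Fin 1080 × ZMod 12), inferInstance, yG MA.range_tabs MA.pairs_tabs,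
    rels_yG MA.range_tabs MA.pairs_tabs ModelA.cenE MA.cenE_fst MA.cube_chk MA.st_chk MA.comm_chk MA.cen_chk
      MA.cen_lt, ?_⟩
  have h0 : (([2, 30, 9, 33, 2, 30, 9, 33], 6) : List ℕ × ℕ) ∈ ModelA.cenE := by decide +kernel
  rw [ev_yG_cen MA.range_tabs MA.pairs_tabs ModelA.cenE MA.cen_chk MA.cen_lt h0, inv_pow, shiftP_pow]
  intro h
  rw [inv_eq_one] at h
  have h2 := congrArg (fun f : Equiv.Perm (Fin 1080 × ZMod 12) => (f (⟨0, by norm_num⟩, 0)).2) h
  simp only [shiftP_apply, shift, Equiv.Perm.coe_one, id_eq] at h2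
  revert h2
  decide

/-! ### the model on `Fin 756 × ZMod 12` -/

namespace MB

open ModelB

theorem tabs_ge (x : ℕ) (hx : 36 ≤ x) : tabs x = 0 := by
  unfold tabs
  split <;> first | omega | rfl

theorem range_chk : ∀ x < 36, checkRangeM (tabs x) 756 756 = true := by
  decide +kernel

theorem range_tabs : Range tabs 756 := by
  intro x p hp
  by_cases hx : x < 36
  · exact checkRangeM_sound _ _ _ (range_chk x hx) p hp
  · rw [tabs_ge x (by omega), lkM_zero]
    norm_num

theorem pairs_tabs : PairsOK tabs 756 := by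
  unfold PairsOK
  decide +kernel

theorem cenE_fst : cenE.map Prod.fst = cenL := by
  decide +kernel

theorem cube_chk : ∀ i < 18, checkWordM ([i, i, i].map tabs) 0 756 = true := by
  decide +kernel

theorem st_chk : ∀ s ∈ stL, checkWordM ((stWord s.1 s.2.1 s.2.2).map tabs) 0 756 = true := by
  decide +kernel

theorem comm_chk : ∀ p ∈ commL, checkWordM ((commWord p.1 p.2).map tabs) 0 756 = true := by
  decide +kernel

theorem cen_chk : ∀ v ∈ cenE, checkWordM (v.1.map tabs) v.2 756 = true := by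
  decide +kernel

theorem cen_lt : ∀ v ∈ cenE, ∀ x ∈ v.1, x < 36 := by
  decide +kernel

end MB

/-- **the model detecting the central element of order three** -/
theorem exists_model3 : ∃ (M : Type) (_ : Group M) (y : ℕ → M), Rels y ∧ ev y [0, 4, 18, 22] ≠ 1 := by
  refine ⟨Equiv.Perm (Fin 756 × ZMod 12), inferInstance, yG MB.range_tabs MB.pairs_tabs,
    rels_yG MB.range_tabs MB.pairs_tabs ModelB.cenE MB.cenE_fst MB.cube_chk MB.st_chk MB.comm_chk MB.cen_chk
      MB.cen_lt, ?_⟩
  have h0 : (([0, 4, 18, 22], 4) : List ℕ × ℕ) ∈ ModelB.cenE := by decide +kernel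
  rw [ev_yG_cen MB.range_tabs MB.pairs_tabs ModelB.cenE MB.cen_chk MB.cen_lt h0]
  intro h
  rw [inv_eq_one] at h
  have h2 := congrArg (fun f : Equiv.Perm (Fin 756 × ZMod 12) => (f (⟨0, by norm_num⟩, 0)).2) h
  simp only [shiftP_apply, shift, Equiv.Perm.coe_one, id_eq] at h2
  revert h2
  decide

end Cfsg.Agent.Lib.H28.O73M
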