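import Cfsg.Agent.Lib.H28.O73M.Bound
import Cfsg.Agent.Lib.H28.O73M.Model
import Cfsg.Agent.Lib.H9.O73LF18
import Cfsg.Agent.Lib.H17.O7Main

set_option autoImplicit false

/-!
# The Schur multiplier of `Ω₇(3)` is cyclic of order 6 (helper28; assembly)
-/

namespace Cfsg.Agent.Lib.H28.O73M

open Cfsg.Agent.Lib.H17.O7Vec Cfsg.Agent.Lib.H17.O7T Cfsg.Agent.Lib.H17.O7Main

theorem card_Om : Nat.card ↥Om = 4585351680 := by
  have h := card_T
  rw [← commutator_eq_T] at h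
  exact h

theorem finite_Om : Finite ↥Om := Nat.finite_of_card_ne_zero (by rw [card_Om]; norm_num)

/-- the multiplier of `Ω₇(3)`, given the abstract argument and the generators -/
theorem mult_Om
    (hab : ∀ {G : Type} [Group G] [Finite G], Nat.card G = 4585351680 → ∀ (X : ℕ → G),
      Subgroup.closure {g : G | ∃ i < 18, g = X i} = ⊤ → Rels X → (∀ c ∈ cenL, ev X c = 1) →
      (∀ (Γ : Type) [Group Γ] (x : ℕ → Γ), Subgroup.closure {g : Γ | ∃ i < 18, g = x i} = ⊤ → Rels x →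
        Finite Γ ∧ Nat.card Γ ≤ 27512110080) →
      (∃ (M : Type) (_ : Group M) (y : ℕ → M), Rels y ∧ ev y [0, 4, 18, 22] ≠ 1) →
      (∃ (M : Type) (_ : Group M) (y : ℕ → M), Rels y ∧ ev y [2, 30, 9, 33, 2, 30, 9, 33] ^ 3 ≠ 1) →
      (∀ (Γ : Type) [Group Γ] [Finite Γ] (σ : Γ →* G), Cfsg.IsStemExtension σ →
        ∃ x : ℕ → Γ, (∀ i < 18, σ (x i) = X i) ∧ Rels x) →
      Cfsg.HasCyclicSchurMultiplier G 6)
    (hgs : ∃ X : ℕ → ↥Om, Subgroup.closure {g : ↥Om | ∃ i < 18, g = X i} = ⊤ ∧ Rels X ∧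
      ∀ c ∈ cenL, ev X c = 1) :
    Cfsg.HasCyclicSchurMultiplier ↥Om 6 := by
  obtain ⟨X, hgen, hX, hXc⟩ := hgs
  have := finite_Om
  exact hab card_Om X hgen hX hXc (fun Γ _ x hg hx => card_le_of_rels18 x hg hx) exists_model3 exists_model2
    (fun Γ _ _ σ hσ => Cfsg.Agent.Lib.H9.O73M.exists_lift_rels18 σ hσ.1 hσ.2.1 X hX hXc)

end Cfsg.Agent.Lib.H28.O73M
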