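import Mathlib
import Cfsg.Prelude.Def_KGroupFacts
import Cfsg.Agent.Lib.H28.O73M.Words

/-! S2095 piece AB6 (helper28; after helper3's `G23AB`): the abstract argument with a kernel of order six. -/

set_option autoImplicit false

namespace Cfsg.Agent.Lib.H28.O73M.AB6

open Cfsg.Agent.Lib.H28.O73M

open scoped commutatorElement

/-- the free generators -/
def xF (i : ℕ) : FreeGroup (Fin 18) := if h : i < 18 then FreeGroup.of ⟨i, h⟩ else 1

/-- the relators -/
def relSet : Set (FreeGroup (Fin 18)) := {r | ∃ w ∈ relL, r = ev xF w}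

/-- the presented group -/
abbrev PG : Type := PresentedGroup relSet

/-- its generators -/
def xP (i : ℕ) : PG := PresentedGroup.mk relSet (xF i)

theorem rels_xP : Rels xP := by
  apply rels_of_ev_eq_one
  intro w hw
  have h1 : ev xP w = PresentedGroup.mk relSet (ev xF w) :=
    (map_ev (PresentedGroup.mk relSet) xF w).symm
  rw [h1]
  exact PresentedGroup.one_of_mem ⟨w, hw, rfl⟩

theorem closure_xP : Subgroup.closure {g : PG | ∃ i < 18, g = xP i} = ⊤ := by
  have h := PresentedGroup.closure_range_of relSet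
  rw [eq_top_iff, ← h]
  apply Subgroup.closure_mono
  rintro _ ⟨a, rfl⟩
  refine ⟨a.1, a.2, ?_⟩
  unfold xP xF
  rw [dif_pos a.2]
  rfl

/-- the universal property -/
noncomputable def homP {Γ : Type*} [Group Γ] (y : ℕ → Γ) (hy : Rels y) : PG →* Γ :=
  PresentedGroup.toGroup (f := fun a : Fin 18 => y a.1) (by
    rintro r ⟨w, hw, rfl⟩
    rw [map_ev]
    have h1 : ev (fun i => FreeGroup.lift (fun a : Fin 18 => y a.1) (xF i)) w = ev y w := by
      apply ev_congr
      intro i hi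
      unfold xF
      rw [dif_pos hi, FreeGroup.lift_apply_of]
    rw [h1]
    exact hy.ev_eq_one w hw)

theorem homP_xP {Γ : Type*} [Group Γ] (y : ℕ → Γ) (hy : Rels y) {i : ℕ} (hi : i < 18) :
    homP y hy (xP i) = y i := by
  unfold homP xP xF
  rw [dif_pos hi]
  exact PresentedGroup.toGroup.of _

theorem homP_ev {Γ : Type*} [Group Γ] (y : ℕ → Γ) (hy : Rels y) (w : List ℕ) :
    homP y hy (ev xP w) = ev y w := by
  rw [map_ev]
  exact ev_congr (fun i hi => homP_xP y hy hi) w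

theorem ev_c0 {Γ : Type*} [Group Γ] (y : ℕ → Γ) :
    ev y [0, 4, 18, 22] = y 0 * y 4 * (y 0)⁻¹ * (y 4)⁻¹ := by
  rw [ev_cons, ev_cons, ev_cons, ev_single]
  have h0 : lv y 0 = y 0 := lv_of_lt y (by norm_num)
  have h4 : lv y 4 = y 4 := lv_of_lt y (by norm_num)
  have h18 : lv y 18 = (y 0)⁻¹ := by
    have := lv_linv y 0
    rw [h0] at this
    exact this
  have h22 : lv y 22 = (y 4)⁻¹ := by
    have := lv_linv y 4
    rw [h4] at this
    exact this
  rw [h0, h4, h18, h22]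
  group

theorem c3_mem_cenL : [0, 4, 18, 22] ∈ cenL := by decide

theorem c6_mem_cenL : [2, 30, 9, 33, 2, 30, 9, 33] ∈ cenL := by decide

theorem gen_comm : ∀ i < 18, ∃ s ∈ stL, s.2.2 = i := by decide

theorem comm_central_left {Γ : Type*} [Group Γ] {z : Γ} (hz : ∀ g : Γ, g * z = z * g) (a g : Γ) :
    ⁅z * a, g⁆ = ⁅a, g⁆ := by
  have hz' : ∀ x : Γ, x * z⁻¹ = z⁻¹ * x := fun x =>
    ((show Commute x z from hz x).inv_right).eq
  rw [commutatorElement_def, commutatorElement_def]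
  calc z * a * g * (z * a)⁻¹ * g⁻¹ = z * (a * g * a⁻¹) * z⁻¹ * g⁻¹ := by group
    _ = z * (z⁻¹ * (a * g * a⁻¹)) * g⁻¹ := by rw [mul_assoc z, hz']
    _ = a * g * a⁻¹ * g⁻¹ := by group

theorem comm_central_both {Γ : Type*} [Group Γ] {z w : Γ} (hz : ∀ g : Γ, g * z = z * g)
    (hw : ∀ g : Γ, g * w = w * g) (a b : Γ) : ⁅z * a, w * b⁆ = ⁅a, b⁆ := by
  rw [comm_central_left hz, ← commutatorElement_inv, comm_central_left hw, commutatorElement_inv]

/-- the words of `cenL` are central in the presented group -/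
theorem cen_central {c : List ℕ} (hc : c ∈ cenL) : ev xP c ∈ Subgroup.center PG := by
  rw [Subgroup.mem_center_iff]
  intro g
  have hg : g ∈ Subgroup.centralizer ({ev xP c} : Set PG) := by
    have hle : Subgroup.closure {g : PG | ∃ i < 18, g = xP i} ≤
        Subgroup.centralizer ({ev xP c} : Set PG) := by
      rw [Subgroup.closure_le]
      rintro g ⟨i, hi, rfl⟩
      rw [SetLike.mem_coe, Subgroup.mem_centralizer_iff]
      intro h hh
      rw [Set.mem_singleton_iff] at hh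
      subst hh
      exact rels_xP.cen _ hc i hi
    apply hle
    rw [closure_xP]
    exact Subgroup.mem_top g
  rw [Subgroup.mem_centralizer_iff] at hg
  exact (hg (ev xP c) rfl).symm

/-- the presented group is perfect -/
theorem perfect_PG : commutator PG = ⊤ := by
  rw [eq_top_iff, ← closure_xP, Subgroup.closure_le]
  rintro g ⟨i, hi, rfl⟩
  obtain ⟨s, hs, rfl⟩ := gen_comm i hi
  have h := rels_xP.st s hs
  rw [SetLike.mem_coe, ← h, commutator_def]
  have h2 : xP s.1 * xP s.2.1 * (xP s.1)⁻¹ * (xP s.2.1)⁻¹ = ⁅xP s.1, xP s.2.1⁆ :=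
    (commutatorElement_def _ _).symm
  rw [h2]
  exact Subgroup.commutator_mem_commutator (Subgroup.mem_top _) (Subgroup.mem_top _)

/-- **AB6**. -/
theorem main_abstract6 {G : Type} [Group G] [Finite G] (hcard : Nat.card G = 4585351680)
    (X : ℕ → G) (hgen : Subgroup.closure {g : G | ∃ i < 18, g = X i} = ⊤) (hX : Rels X)
    (hXc : ∀ c ∈ cenL, ev X c = 1)
    (hbound : ∀ (Γ : Type) [Group Γ] (x : ℕ → Γ), Subgroup.closure {g : Γ | ∃ i < 18, g = x i} = ⊤ → Rels x →
      Finite Γ ∧ Nat.card Γ ≤ 27512110080)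
    (hmodel3 : ∃ (M : Type) (_ : Group M) (y : ℕ → M), Rels y ∧ ev y [0, 4, 18, 22] ≠ 1)
    (hmodel2 : ∃ (M : Type) (_ : Group M) (y : ℕ → M), Rels y ∧ ev y [2, 30, 9, 33, 2, 30, 9, 33] ^ 3 ≠ 1)
    (hlift : ∀ (Γ : Type) [Group Γ] [Finite Γ] (σ : Γ →* G), Cfsg.IsStemExtension σ →
      ∃ x : ℕ → Γ, (∀ i < 18, σ (x i) = X i) ∧ Rels x) :
    Cfsg.HasCyclicSchurMultiplier G 6 := by
  classical
  have : Fact (Nat.Prime 3) := ⟨by norm_num⟩
  have : Fact (Nat.Prime 2) := ⟨by norm_num⟩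
  -- the covering map
  set π : PG →* G := homP X hX with hπ
  have hπx : ∀ i < 18, π (xP i) = X i := fun i hi => homP_xP X hX hi
  have hπs : Function.Surjective π := by
    rw [← MonoidHom.range_eq_top, eq_top_iff, ← hgen, Subgroup.closure_le]
    rintro g ⟨i, hi, rfl⟩
    exact ⟨xP i, hπx i hi⟩
  obtain ⟨hfin, hcardP⟩ := hbound PG xP closure_xP rels_xP
  -- the central element of order three
  set c3 : PG := ev xP [0, 4, 18, 22] with hc3
  have hc3ker : c3 ∈ π.ker := by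
    rw [MonoidHom.mem_ker, hc3, hπ, homP_ev]
    exact hXc _ c3_mem_cenL
  have hc3cen : c3 ∈ Subgroup.center PG := cen_central c3_mem_cenL
  have hc3ne : c3 ≠ 1 := by
    obtain ⟨M, _, y, hy, hne⟩ := hmodel3
    intro h1
    apply hne
    rw [← homP_ev y hy, ← hc3, h1, map_one]
  have hc3cube : c3 ^ 3 = 1 := by
    have e0 : c3 = xP 0 * xP 4 * (xP 0)⁻¹ * (xP 4)⁻¹ := ev_c0 xP
    have e1 : xP 0 * xP 4 * (xP 0)⁻¹ = c3 * xP 4 := by
      rw [e0]; group
    have hcomm : Commute c3 (xP 4) := by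
      rw [Subgroup.mem_center_iff] at hc3cen
      exact (hc3cen (xP 4)).symm
    have e2 : (xP 0 * xP 4 * (xP 0)⁻¹) ^ 3 = xP 0 * (xP 4) ^ 3 * (xP 0)⁻¹ := conj_pow
    have e3 : (c3 * xP 4) ^ 3 = c3 ^ 3 * (xP 4) ^ 3 := hcomm.mul_pow 3
    have h4 : (xP 4) ^ 3 = 1 := rels_xP.cube 4 (by norm_num)
    rw [e1, e3, h4, mul_one, mul_one, mul_inv_cancel] at e2
    exact e2
  have hord3 : orderOf c3 = 3 := orderOf_eq_prime hc3cube hc3ne
  -- the central element detecting the involution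
  set c6 : PG := ev xP [2, 30, 9, 33, 2, 30, 9, 33] with hc6
  have hc6ker : c6 ∈ π.ker := by
    rw [MonoidHom.mem_ker, hc6, hπ, homP_ev]
    exact hXc _ c6_mem_cenL
  have hc6cen : c6 ∈ Subgroup.center PG := cen_central c6_mem_cenL
  have hc6ne : c6 ^ 3 ≠ 1 := by
    obtain ⟨M, _, y, hy, hne⟩ := hmodel2
    intro h1
    apply hne
    rw [← homP_ev y hy, ← hc6, ← map_pow, h1, map_one]
  -- the kernel
  have hkcard : Nat.card π.ker * Nat.card G = Nat.card PG := by
    have h1 := Subgroup.card_eq_card_quotient_mul_card_subgroup π.ker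
    have h2 : Nat.card (PG ⧸ π.ker) = Nat.card G :=
      Nat.card_congr (QuotientGroup.quotientKerEquivOfSurjective π hπs).toEquiv
    rw [h1, h2, mul_comm]
  have hk6 : Nat.card π.ker ≤ 6 := by
    have : Nat.card π.ker * 4585351680 ≤ 6 * 4585351680 := by
      rw [← hcard, hkcard]
      have : (6 : ℕ) * Nat.card G = 27512110080 := by rw [hcard]
      rw [this]
      exact hcardP
    exact Nat.le_of_mul_le_mul_right this (by norm_num)
  -- the subgroup generated by the two central elements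
  set H : Subgroup PG := Subgroup.zpowers c3 ⊔ Subgroup.zpowers c6 with hH
  have hHker : H ≤ π.ker := by
    rw [hH, sup_le_iff, Subgroup.zpowers_le, Subgroup.zpowers_le]
    exact ⟨hc3ker, hc6ker⟩
  have hHcen : H ≤ Subgroup.center PG := by
    rw [hH, sup_le_iff, Subgroup.zpowers_le, Subgroup.zpowers_le]
    exact ⟨hc3cen, hc6cen⟩
  have hz3card : Nat.card (Subgroup.zpowers c3) = 3 := by
    rw [Nat.card_zpowers, hord3]
  have hHle : Nat.card H ≤ 6 := (Subgroup.card_le_of_le hHker).trans hk6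
  have h3dvd : 3 ∣ Nat.card H := by
    rw [← hz3card]
    exact Subgroup.card_dvd_of_le le_sup_left
  have hHpos : 0 < Nat.card H := Nat.card_pos
  have hHne3 : Nat.card H ≠ 3 := by
    intro h3
    have heq : Subgroup.zpowers c3 = H := by
      apply Subgroup.eq_of_le_of_card_ge le_sup_left
      rw [hz3card, h3]
    have hc6H : c6 ∈ Subgroup.zpowers c3 := by
      rw [heq]
      exact (le_sup_right : Subgroup.zpowers c6 ≤ H) (Subgroup.mem_zpowers c6)
    obtain ⟨k, hk⟩ := Subgroup.mem_zpowers_iff.mp hc6H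
    apply hc6ne
    rw [← hk, ← zpow_natCast, ← zpow_mul, mul_comm, zpow_mul, zpow_natCast, hc3cube, one_zpow]
  have hH6 : Nat.card H = 6 := by
    obtain ⟨m, hm⟩ := h3dvd
    have hm1 : m = 1 ∨ m = 2 := by omega
    rcases hm1 with rfl | rfl
    · exact absurd hm hHne3
    · exact hm
  have hker : H = π.ker := by
    apply Subgroup.eq_of_le_of_card_ge hHker
    rw [hH6]
    exact hk6
  have hkcen : π.ker ≤ Subgroup.center PG := by
    rw [← hker]
    exact hHcen
  have hkcomm : π.ker ≤ commutator PG := by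
    rw [perfect_PG]
    exact le_top
  have hk6' : Nat.card π.ker = 6 := by rw [← hker, hH6]
  -- the kernel is cyclic
  have hc66 : c6 ^ 6 = 1 := by
    have h1 : (⟨c6, hc6ker⟩ : π.ker) ^ Nat.card π.ker = 1 := pow_card_eq_one'
    rw [hk6'] at h1
    have h2 := congrArg (fun z : π.ker => (z : PG)) h1
    simpa using h2
  have hord2 : orderOf (c6 ^ 3) = 2 := by
    apply orderOf_eq_prime
    · rw [← pow_mul]
      exact hc66
    · exact hc6ne
  have hcomm36 : Commute c3 (c6 ^ 3) := by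
    rw [Subgroup.mem_center_iff] at hc3cen
    exact (hc3cen (c6 ^ 3)).symm
  have hord6 : orderOf (c3 * c6 ^ 3) = 6 := by
    rw [hcomm36.orderOf_mul_eq_mul_orderOf_of_coprime (by rw [hord3, hord2]; norm_num), hord3, hord2]
  have hgker : c3 * c6 ^ 3 ∈ π.ker := Subgroup.mul_mem _ hc3ker (Subgroup.pow_mem _ hc6ker 3)
  have hcyc : IsCyclic π.ker := by
    apply isCyclic_of_orderOf_eq_card (⟨c3 * c6 ^ 3, hgker⟩ : π.ker)
    rw [hk6', ← hord6]
    exact Subgroup.orderOf_mk _ _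
  have hz6 : Nat.card (Multiplicative (ZMod 6)) = 6 := by
    rw [Nat.card_eq_fintype_card, Fintype.card_multiplicative, ZMod.card]
  have e : π.ker ≃* Multiplicative (ZMod 6) := mulEquivOfCyclicCardEq (hk6'.trans hz6.symm)
  refine ⟨⟨PG, inferInstance, hfin, π, ⟨hπs, hkcen, hkcomm⟩, ⟨e⟩⟩, ?_⟩
  -- universality
  intro Γ _ _ σ hσ
  obtain ⟨x', hx'σ, hx'⟩ := hlift Γ σ hσ
  obtain ⟨hσs, hσc, hσd⟩ := hσ
  set φ : PG →* Γ := homP x' hx' with hφ
  have hσφ : σ.comp φ = π := by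
    apply PresentedGroup.ext
    intro a
    have h1 : (PresentedGroup.of a : PG) = xP a.1 := by
      unfold xP xF
      rw [dif_pos a.2]
      rfl
    rw [h1, MonoidHom.comp_apply, hφ, homP_xP x' hx' a.2, hx'σ a.1 a.2, hπx a.1 a.2]
  have hσφ' : ∀ p : PG, σ (φ p) = π p := fun p => by rw [← hσφ]; rfl
  have hdecomp : ∀ γ : Γ, ∃ k ∈ σ.ker, ∃ p : PG, γ = k * φ p := by
    intro γ
    obtain ⟨p, hp⟩ := hπs (σ γ)
    refine ⟨γ * (φ p)⁻¹, ?_, p, by group⟩
    rw [MonoidHom.mem_ker, map_mul, map_inv, hσφ', hp, mul_inv_cancel]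
  have hcommle : commutator Γ ≤ φ.range := by
    rw [commutator_def, Subgroup.commutator_le]
    intro g₁ _ g₂ _
    obtain ⟨k₁, hk₁, p₁, rfl⟩ := hdecomp g₁
    obtain ⟨k₂, hk₂, p₂, rfl⟩ := hdecomp g₂
    have c₁ := Subgroup.mem_center_iff.1 (hσc hk₁)
    have c₂ := Subgroup.mem_center_iff.1 (hσc hk₂)
    have : ⁅k₁ * φ p₁, k₂ * φ p₂⁆ = φ ⁅p₁, p₂⁆ := by
      rw [map_commutatorElement]
      exact comm_central_both c₁ c₂ _ _
    rw [this]
    exact ⟨_, rfl⟩
  have hkerle : ∀ k ∈ σ.ker, ∃ p ∈ π.ker, φ p = k := by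
    intro k hk
    obtain ⟨p, hp⟩ := hcommle (hσd hk)
    refine ⟨p, ?_, hp⟩
    rw [MonoidHom.mem_ker, ← hσφ', hp]
    exact hk
  let ψ : π.ker →* σ.ker :=
    (φ.comp π.ker.subtype).codRestrict σ.ker (by
      intro p
      rw [MonoidHom.mem_ker, MonoidHom.comp_apply, hσφ']
      exact p.2)
  have hψs : Function.Surjective ψ := by
    rintro ⟨k, hk⟩
    obtain ⟨p, hp, hpk⟩ := hkerle k hk
    exact ⟨⟨p, hp⟩, Subtype.ext hpk⟩
  exact ⟨ψ.comp e.symm.toMonoidHom, hψs.comp e.symm.surjective⟩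

end Cfsg.Agent.Lib.H28.O73M.AB6
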