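import Cfsg.Agent.Lib.H28.O73M.Cert.Run
import Cfsg.Agent.Lib.H28.O73M.Cert.Rows
import Cfsg.Agent.Lib.H28.G23M.Bound
import Cfsg.Agent.Lib.H28.HeM.CertGlue

set_option autoImplicit false
set_option maxRecDepth 100000

/-!
# A group on eighteen generators with the relations `Rels` has order at most `27512110080` (helper28)

The first twelve generators satisfy the relations of (the triple cover of) `G₂(3)` and so generate a subgroup of
order at most `12737088` (`G23M.card_le_of_rels`); a certified coset enumeration shows that it has index at most `2160`.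
-/

namespace Cfsg.Agent.Lib.H28.O73M

open Cfsg.Agent.Lib.H17.CosetCert Cfsg.Agent.Lib.H28.CosetCertD Cfsg.Agent.Lib.H28.HeM

variable {G : Type*} [Group G]

theorem g2_lv_congr {x y : ℕ → G} (hxy : ∀ i < 12, x i = y i) (l : ℕ) : G23M.lv x l = G23M.lv y l := by
  unfold G23M.lv
  rw [hxy _ (Nat.mod_lt _ (by norm_num))]

theorem g2_ev_congr {x y : ℕ → G} (hxy : ∀ i < 12, x i = y i) (w : List ℕ) : G23M.ev x w = G23M.ev y w := by
  induction w with
  | nil => rfl
  | cons l w ih => rw [G23M.ev_cons, G23M.ev_cons, ih, g2_lv_congr hxy]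

/-- the subgroup generated by twelve elements with the relations of `G23M` -/
theorem card_closure_g2_le {Γ : Type*} [Group Γ] (x : ℕ → Γ) (hx : G23M.Rels x) :
    Finite ↥(Subgroup.closure {g : Γ | ∃ i < 12, g = x i}) ∧
      Nat.card ↥(Subgroup.closure {g : Γ | ∃ i < 12, g = x i}) ≤ 12737088 := by
  classical
  let x' : ℕ → ↥(Subgroup.closure {g : Γ | ∃ i < 12, g = x i}) := fun i =>
    if h : i < 12 then ⟨x i, Subgroup.subset_closure ⟨i, h, rfl⟩⟩ else 1
  have hx' : ∀ i < 12, ((x' i : ↥(Subgroup.closure {g : Γ | ∃ i < 12, g = x i})) : Γ) = x i := by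
    intro i hi
    simp only [x', dif_pos hi]
  have hrel : G23M.Rels x' := by
    apply G23M.rels_of_ev_eq_one
    intro w hw
    apply Subtype.ext
    rw [Subgroup.coe_one]
    have h1 := G23M.map_ev (Subgroup.closure {g : Γ | ∃ i < 12, g = x i}).subtype x' w
    have h2 : G23M.ev (fun i => (Subgroup.closure {g : Γ | ∃ i < 12, g = x i}).subtype (x' i)) w = G23M.ev x w :=
      g2_ev_congr (fun i hi => hx' i hi) w
    have h3 := hx.ev_eq_one w hw
    rw [h2, h3] at h1
    exact h1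
  have hgen : Subgroup.closure {g : ↥(Subgroup.closure {g : Γ | ∃ i < 12, g = x i}) | ∃ i < 12, g = x' i} = ⊤ := by
    have h := Subgroup.closure_closure_coe_preimage (k := {g : Γ | ∃ i < 12, g = x i})
    have hs : {g : ↥(Subgroup.closure {g : Γ | ∃ i < 12, g = x i}) | ∃ i < 12, g = x' i} =
        ((↑) : ↥(Subgroup.closure {g : Γ | ∃ i < 12, g = x i}) → Γ) ⁻¹' {g : Γ | ∃ i < 12, g = x i} := by
      ext g
      constructor
      · rintro ⟨i, hi, rfl⟩
        exact ⟨i, hi, hx' i hi⟩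
      · rintro ⟨i, hi, hg⟩
        exact ⟨i, hi, Subtype.ext (hg.trans (hx' i hi).symm)⟩
    rw [hs]
    exact h
  exact G23M.card_le_of_rels x' hgen hrel

theorem subL_cases : ∀ w ∈ subL, ∃ i < 12, w = [i] := by decide

/-- **the bound** -/
theorem card_le_of_rels18 {Γ : Type*} [Group Γ] (x : ℕ → Γ)
    (hgen : Subgroup.closure {g : Γ | ∃ i < 18, g = x i} = ⊤) (hx : Rels x) :
    Finite Γ ∧ Nat.card Γ ≤ 27512110080 := by
  set γ : ℕ → Γ := lv x with hγ
  have hrel' : ∀ w ∈ relL, (w.map γ).prod = 1 := hx.ev_eq_one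
  set E : Subgroup Γ := Subgroup.closure {g : Γ | ∃ i < 12, g = x i} with hE
  have hsub : ∀ w ∈ subL, (w.map γ).prod ∈ E := by
    intro w hw
    obtain ⟨i, hi, rfl⟩ := subL_cases w hw
    simp only [hγ, List.map_cons, List.map_nil, List.prod_cons, List.prod_nil, mul_one]
    rw [lv_of_lt x (by omega)]
    exact Subgroup.subset_closure ⟨i, hi, rfl⟩
  have hOK := CertGlue.wordsOK Cert.words relL subL Cert.words_spec γ hrel' E hsub
  have hI := Cert.run (fun l => (γ l)⁻¹) (((1 : Γ) : Γ ⧸ E)) hOK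
  have hgen' : Subgroup.closure {g : Γ | ∃ l < 36, g = (fun l => (γ l)⁻¹) l} = ⊤ := by
    rw [eq_top_iff, ← hgen, Subgroup.closure_le]
    rintro y ⟨i, hi, rfl⟩
    have h1 : (γ i)⁻¹ ∈ Subgroup.closure {g : Γ | ∃ l < 36, g = (fun l => (γ l)⁻¹) l} :=
      Subgroup.subset_closure ⟨i, by omega, rfl⟩
    have h2 := Subgroup.inv_mem _ h1
    rw [inv_inv, hγ, lv_of_lt x hi] at h2
    exact h2
  obtain ⟨hfin, hcard⟩ := card_leD Cert.F 36 16777216 (fun l => (γ l)⁻¹) (((1 : Γ) : Γ ⧸ E)) 81922 2615 hI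
    Cert.rows Cert.mask Cert.mask_ok Cert.mask_zero Cert.rows_ok hgen'
  rw [Cert.rows_length] at hcard
  obtain ⟨hEfin, hEcard⟩ := card_closure_g2_le x hx.toG2
  rw [← hE] at hEfin hEcard
  have hGfin : Finite Γ := Finite.of_equiv _ (Subgroup.groupEquivQuotientProdSubgroup (s := E)).symm
  refine ⟨hGfin, ?_⟩
  have hmul := Subgroup.card_eq_card_quotient_mul_card_subgroup E
  calc Nat.card Γ = Nat.card (Γ ⧸ E) * Nat.card E := hmul
    _ ≤ 2160 * 12737088 := Nat.mul_le_mul hcard hEcard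
    _ = 27512110080 := by norm_num

end Cfsg.Agent.Lib.H28.O73M
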