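import Cfsg.Agent.Lib.H28.O73M.GSTabs

set_option autoImplicit false
set_option maxRecDepth 100000

/-! # The tables of the generators of `Ω₇(3)` are right (generated; helper28) -/

namespace Cfsg.Agent.Lib.H28.O73M.GS

open Matrix Cfsg.Agent.Lib.H17.O7Vec

theorem tab_ok_0 : ∀ y : Fin 2187, (enc (ofTbl m0 *ᵥ dec y)).val = lk12 t0 y.val := by
  decide +kernel

theorem tab_ok_1 : ∀ y : Fin 2187, (enc (ofTbl m1 *ᵥ dec y)).val = lk12 t1 y.val := by
  decide +kernel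

theorem tab_ok_2 : ∀ y : Fin 2187, (enc (ofTbl m2 *ᵥ dec y)).val = lk12 t2 y.val := by
  decide +kernel

theorem tab_ok_3 : ∀ y : Fin 2187, (enc (ofTbl m3 *ᵥ dec y)).val = lk12 t3 y.val := by
  decide +kernel

theorem tab_ok_4 : ∀ y : Fin 2187, (enc (ofTbl m4 *ᵥ dec y)).val = lk12 t4 y.val := by
  decide +kernel

theorem tab_ok_5 : ∀ y : Fin 2187, (enc (ofTbl m5 *ᵥ dec y)).val = lk12 t5 y.val := by
  decide +kernel

end Cfsg.Agent.Lib.H28.O73M.GS
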